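import Groth.Prelude.Def_CGrpSh3
import Mathlib.AlgebraicGeometry.Sites.BigZariski

/-!
# Sections of fppf sheaves on a disjoint union of two opens
-/

set_option autoImplicit false
set_option linter.style.haveILetI false
set_option maxHeartbeats 800000
set_option backward.isDefEq.respectTransparency.types false

universe u

open CategoryTheory CategoryTheory.Limits AlgebraicGeometry Opposite TopologicalSpace

noncomputable section

namespace Groth.Agent.Lib.NormDual86

variable {S : Scheme.{u}} (F : BigSite.Ab Scheme.fppfPrecoverage S)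

/-- An open as an object over the base. -/
abbrev resO (Y : Over S) (O : Y.left.Opens) : Over S := Over.mk (O.ι ≫ Y.hom)

/-- Its inclusion. -/
abbrev incO (Y : Over S) (O : Y.left.Opens) : resO Y O ⟶ Y := Over.homMk O.ι rfl

theorem isSheafFor_cover {Y : Over S} {ι : Type (u + 1)} (Z : ι → Over S) (g : ∀ i, Z i ⟶ Y)
    (hflat : ∀ i, Flat (g i).left) (hlfp : ∀ i, LocallyOfFinitePresentation (g i).left)
    (hsurj : ∀ y : Y.left, ∃ i, y ∈ Set.range (g i).left) :
    (Presieve.ofArrows Z g).IsSheafFor (F.obj ⋙ forget AddCommGrpCat.{u + 1}) := by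
  have hmem : Sieve.ofArrows Z g ∈ QuotSh.J Scheme.fppfPrecoverage S Y := by
    rw [GrothendieckTopology.mem_over_iff, Sieve.overEquiv_ofArrows]
    refine Precoverage.generate_mem_toGrothendieck
      ((Scheme.ofArrows_mem_precoverage_iff _).2 ⟨fun t => ?_, fun i => ⟨hflat i, hlfp i⟩⟩)
    exact hsurj t
  exact (Presieve.isSheafFor_iff_generate _).2
    (((isSheaf_iff_isSheaf_of_type _ _).1 (Presheaf.isSheaf_comp_of_isSheaf _ F.obj
      (forget AddCommGrpCat.{u + 1}) F.property)) _ hmem)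

/-- Sections are detected on a covering. -/
theorem sec_ext {Y : Over S} {ι : Type (u + 1)} (Z : ι → Over S) (g : ∀ i, Z i ⟶ Y)
    (hflat : ∀ i, Flat (g i).left) (hlfp : ∀ i, LocallyOfFinitePresentation (g i).left)
    (hsurj : ∀ y : Y.left, ∃ i, y ∈ Set.range (g i).left) {a b : F.obj.obj (op Y)}
    (h : ∀ i, F.obj.map (g i).op a = F.obj.map (g i).op b) : a = b :=
  (isSheafFor_cover F Z g hflat hlfp hsurj).isSeparatedFor.ext (by
    rintro W _ ⟨i⟩
    exact h i)

theorem sec_ext_of_empty {Y : Over S} (hY : IsEmpty Y.left) (a b : F.obj.obj (op Y)) : a = b :=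
  sec_ext F (ι := PEmpty.{u + 2}) PEmpty.elim (fun i => i.elim) (fun i => i.elim) (fun i => i.elim)
    (fun y => hY.elim y) fun i => i.elim

variable {Y : Over S} (O O' : Y.left.Opens)

theorem sec_ext₂ (hcov : ∀ y : Y.left, y ∈ O ∨ y ∈ O') {a b : F.obj.obj (op Y)}
    (h : F.obj.map (incO Y O).op a = F.obj.map (incO Y O).op b)
    (h' : F.obj.map (incO Y O').op a = F.obj.map (incO Y O').op b) : a = b := by
  refine sec_ext F (ι := ULift.{u + 1} Bool) (fun i => resO Y (bif i.down then O else O'))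
    (fun i => incO Y _) (fun i => inferInstanceAs (Flat (Scheme.Opens.ι _)))
    (fun i => inferInstanceAs (LocallyOfFinitePresentation (Scheme.Opens.ι _))) (fun y => ?_) fun i => ?_
  · rcases hcov y with hy | hy
    · exact ⟨⟨true⟩, ⟨y, hy⟩, rfl⟩
    · exact ⟨⟨false⟩, ⟨y, hy⟩, rfl⟩
  · rcases i with ⟨_ | _⟩
    · exact h'
    · exact h

theorem exists_sec (hdisj : O ⊓ O' = ⊥) (hcov : ∀ y : Y.left, y ∈ O ∨ y ∈ O')
    (a : F.obj.obj (op (resO Y O))) (b : F.obj.obj (op (resO Y O'))) :
    ∃ s : F.obj.obj (op Y), F.obj.map (incO Y O).op s = a ∧ F.obj.map (incO Y O').op s = b := by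
  let Z : ULift.{u + 1} Bool → Over S := fun i => resO Y (bif i.down then O else O')
  let x : ∀ i, F.obj.obj (op (Z i)) := fun i => match i with
    | ⟨true⟩ => a
    | ⟨false⟩ => b
  have hsh := isSheafFor_cover F Z (fun i => incO Y _) (fun i => inferInstanceAs (Flat (Scheme.Opens.ι _)))
    (fun i => inferInstanceAs (LocallyOfFinitePresentation (Scheme.Opens.ι _))) fun y => by
      rcases hcov y with hy | hy
      · exact ⟨⟨true⟩, ⟨y, hy⟩, rfl⟩
      · exact ⟨⟨false⟩, ⟨y, hy⟩, rfl⟩
  have hbot : ∀ {W : Over S} (g : W ⟶ resO Y O) (g' : W ⟶ resO Y O'),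
      g ≫ incO Y O = g' ≫ incO Y O' → IsEmpty W.left := fun g g' he => ⟨fun w => by
    have h1 : O.ι (g.left w) = O'.ι (g'.left w) := by
      have := congrArg (fun k : _ ⟶ Y => k.left w) he
      simpa using this
    have : O.ι (g.left w) ∈ O ⊓ O' := ⟨(g.left w).2, by rw [h1]; exact (g'.left w).2⟩
    rw [hdisj] at this
    exact this⟩
  obtain ⟨s, hs, -⟩ := (Presieve.isSheafFor_arrows_iff _ _).1 hsh x (by
    rintro ⟨_ | _⟩ ⟨_ | _⟩ W g g' he
    · haveI : Mono (incO Y O') := Over.mono_of_mono_left _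
      rw [(cancel_mono (incO Y O')).1 he]
    · exact sec_ext_of_empty F (hbot g' g he.symm) _ _
    · exact sec_ext_of_empty F (hbot g g' he) _ _
    · haveI : Mono (incO Y O) := Over.mono_of_mono_left _
      rw [(cancel_mono (incO Y O)).1 he])
  exact ⟨s, hs ⟨true⟩, hs ⟨false⟩⟩

end Groth.Agent.Lib.NormDual86
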