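import Groth.Agent.Lib.NormDual86.Basic

/-!
# Étale local decomposition of a finite étale scheme into monomorphisms
-/

set_option autoImplicit false
set_option linter.style.haveILetI false
set_option maxHeartbeats 800000
set_option backward.isDefEq.respectTransparency.types false

universe u

open CategoryTheory CategoryTheory.Limits AlgebraicGeometry Opposite TopologicalSpace

noncomputable section

namespace Groth.Agent.Lib.NormDual86

open Unram Unram.SplitNhd

theorem exists_split_cover {Y S : Scheme.{u}} (f : Y ⟶ S) [IsFinite f] [Etale f] (s : S) :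
    ∃ (U : Scheme.{u}) (g : U ⟶ S) (u : U), Etale g ∧ g u = s ∧
      ∃ (ι : Type) (_ : Finite ι) (V : ι → (pullback f g).Opens),
        (∀ i, IsClosedImmersion ((V i).ι ≫ pullback.snd f g)) ∧ ∀ z, ∃ i, z ∈ V i := by
  classical
  have hfin : (f ⁻¹' {s}).Finite := f.finite_preimage_singleton s
  obtain ⟨n, ⟨e⟩⟩ := hfin.to_subtype.exists_equiv_fin
  let x : Fin n → Y := fun i => (e.symm i).1
  have hft : ∀ _i : Fin n, LocallyOfFiniteType ((⊤ : Y.Opens).ι ≫ f) := fun _ => inferInstance
  have hfu : ∀ _i : Fin n, FormallyUnramified ((⊤ : Y.Opens).ι ≫ f) := fun _ => inferInstance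
  obtain ⟨U, g, u, hg, hu, K, hK, V, hV⟩ := SplitFamily.exists_family f s x (fun _ => ⊤)
    (fun _ => trivial) (fun i => (e.symm i).2) hft hfu
  let W : (pullback f g).Opens := ⨆ k : Σ i, K i, V k.1 k.2
  haveI : IsFinite (pullback.snd f g) := MorphismProperty.pullback_snd _ _ inferInstance
  have hcl : IsClosed ((pullback.snd f g) '' (W : Set ↑(pullback f g))ᶜ) :=
    (pullback.snd f g).isClosedMap _ W.2.isClosed_compl
  let U₀ : U.Opens := ⟨_, hcl.isOpen_compl⟩
  have hu₀ : u ∈ U₀ := by
    rintro ⟨w, hw, hwu⟩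
    have hfw : f (pullback.fst f g w) = s := by
      rw [← Scheme.Hom.comp_apply, pullback.condition, Scheme.Hom.comp_apply, hwu, hu]
    obtain ⟨k, hk⟩ := (hV (e ⟨_, hfw⟩)).cover w hwu (by simp [x])
    exact hw (Opens.mem_iSup.2 ⟨⟨_, k⟩, hk⟩)
  haveI : Etale g := hg
  refine ⟨_, U₀.ι ≫ g, ⟨u, hu₀⟩, inferInstance, hu, (Σ i, K i), inferInstance,
    fun k => refineMap f g U₀.ι ⁻¹ᵁ V k.1 k.2, fun k => ?_, fun z => ?_⟩
  · exact MorphismProperty.of_isPullback (isPullback_restrict f g U₀.ι (V k.1 k.2)) ((hV k.1).closed k.2)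
  · have h1 : pullback.snd f g (refineMap f g U₀.ι z) ∈ U₀ := by
      rw [snd_refineMap]; exact (pullback.snd f (U₀.ι ≫ g) z).2
    have h2 : refineMap f g U₀.ι z ∈ W := by
      by_contra hh
      exact h1 ⟨_, hh, rfl⟩
    obtain ⟨k, hk⟩ := Opens.mem_iSup.1 h2
    exact ⟨k, hk⟩

variable {X X' : Scheme.{u}} (f : X' ⟶ X) [IsFinite f] [Etale f]

theorem exists_cover (T : Over X) (t : T.left) :
    ∃ (U : Over X) (h : U ⟶ T) (u : U.left), Etale h.left ∧ h.left u = t ∧
      ∃ (ι : Type) (_ : Finite ι) (V : ι → ((Over.pullback f).obj U).left.Opens),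
        (∀ i, IsClosed (V i : Set ((Over.pullback f).obj U).left)) ∧
        (∀ i, Mono ((V i).ι ≫ pullback.fst U.hom f)) ∧ ∀ z, ∃ i, z ∈ V i := by
  haveI : IsFinite (pullback.fst T.hom f) := MorphismProperty.pullback_fst _ _ inferInstance
  haveI : Etale (pullback.fst T.hom f) :=
    MorphismProperty.pullback_fst (P := @Etale) _ _ inferInstance
  obtain ⟨W, g, u, hg, hu, ι, hι, V, hV, hcov⟩ := exists_split_cover (pullback.fst T.hom f) t
  let U : Over X := Over.mk (g ≫ T.hom)
  let h : U ⟶ T := Over.homMk g rfl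
  let θ := (isPullback_pb f h).isoPullback
  have hθ : θ.hom ≫ pullback.snd (pullback.fst T.hom f) g = pullback.fst U.hom f :=
    (isPullback_pb f h).isoPullback_hom_snd
  refine ⟨U, h, u, hg, hu, ι, hι, fun i => θ.hom ⁻¹ᵁ V i, fun i => ?_, fun i => ?_, fun z => hcov _⟩
  · haveI := hV i
    haveI : IsSeparated (pullback.snd (pullback.fst T.hom f) g) := inferInstance
    haveI := IsClosedImmersion.of_comp (V i).ι (pullback.snd (pullback.fst T.hom f) g)
    have : IsClosed (V i : Set ↑(pullback (pullback.fst T.hom f) g)) := by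
      rw [← Scheme.Opens.range_ι]
      exact (V i).ι.isClosedEmbedding.isClosed_range
    exact this.preimage θ.hom.continuous
  · haveI := hV i
    rw [← hθ, ← Category.assoc, ← morphismRestrict_ι, Category.assoc]
    haveI : IsPreimmersion ((V i).ι ≫ pullback.snd (pullback.fst T.hom f) g) :=
      inferInstance
    haveI : Mono ((V i).ι ≫ pullback.snd (pullback.fst T.hom f) g) := SurjectiveOnStalks.mono_of_injective
      ((V i).ι ≫ pullback.snd (pullback.fst T.hom f) g).isEmbedding.injective
    exact @mono_comp _ _ _ _ _ _ inferInstance _ this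

end Groth.Agent.Lib.NormDual86
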