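import Groth.Agent.H58NM.Norm
import Groth.Agent.Lib.FEt.AppBijective
import Groth.Agent.Lib.Unram.SplitFamily
import Mathlib.LinearAlgebra.Transvection.Basic
import Mathlib.AlgebraicGeometry.Morphisms.Finite

/-!
# Clopen sections and norms supported on a section
-/

set_option autoImplicit false
set_option linter.style.haveILetI false
set_option maxHeartbeats 800000
set_option backward.isDefEq.respectTransparency.types false

universe u

open CategoryTheory CategoryTheory.Limits AlgebraicGeometry Opposite TopologicalSpace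

noncomputable section

namespace Groth.Agent.Lib.NormDual86

/-- Two functions agreeing on an open and its open complement are equal. -/
theorem fn_ext {Y : Scheme.{u}} (O O' : Y.Opens) (hcov : ∀ y : Y, y ∈ O ∨ y ∈ O') {a b : Γ(Y, ⊤)}
    (h : O.ι.appTop a = O.ι.appTop b) (h' : O'.ι.appTop a = O'.ι.appTop b) : a = b := by
  refine Y.sheaf.eq_of_locally_eq' (fun i : Bool => bif i then O.ι ''ᵁ ⊤ else O'.ι ''ᵁ ⊤) ⊤
    (fun i => homOfLE le_top) (fun y _ => ?_) _ _ fun i => ?_
  · rcases hcov y with hy | hy
    · exact Opens.mem_iSup.2 ⟨true, ⟨y, hy⟩, trivial, rfl⟩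
    · exact Opens.mem_iSup.2 ⟨false, ⟨y, hy⟩, trivial, rfl⟩
  · cases i
    · exact ((congr($(Scheme.Opens.ι_appTop O') a)).symm.trans h').trans
        (congr($(Scheme.Opens.ι_appTop O') b))
    · exact ((congr($(Scheme.Opens.ι_appTop O) a)).symm.trans h).trans
        (congr($(Scheme.Opens.ι_appTop O) b))

/-- Gluing functions on two disjoint opens. -/
theorem exists_fn {Y : Scheme.{u}} (O O' : Y.Opens) (hdisj : O ⊓ O' = ⊥)
    (hcov : ∀ y : Y, y ∈ O ∨ y ∈ O') (a : Γ(O.toScheme, ⊤)) (b : Γ(O'.toScheme, ⊤)) :
    ∃ s : Γ(Y, ⊤), O.ι.appTop s = a ∧ O'.ι.appTop s = b := by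
  let U : Bool → Y.Opens := fun i => bif i then O.ι ''ᵁ ⊤ else O'.ι ''ᵁ ⊤
  have hc : (⊤ : Y.Opens) ≤ ⨆ i, U i := fun y _ => by
    rcases hcov y with hy | hy
    · exact Opens.mem_iSup.2 ⟨true, ⟨y, hy⟩, trivial, rfl⟩
    · exact Opens.mem_iSup.2 ⟨false, ⟨y, hy⟩, trivial, rfl⟩
  let sf : ∀ i, Γ(Y, U i) := fun i => match i with
    | true => a
    | false => b
  have hbot : U true ⊓ U false = ⊥ := by
    refine le_bot_iff.1 (le_trans ?_ hdisj.le)
    exact inf_le_inf O.ι_image_top.le O'.ι_image_top.le
  obtain ⟨s, hs, -⟩ := Y.sheaf.existsUnique_gluing' U ⊤ (fun i => homOfLE le_top) hc sf (by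
    intro i j
    rcases i <;> rcases j
    · rfl
    · haveI : Subsingleton Γ(Y, U false ⊓ U true) := by rw [inf_comm, hbot]; infer_instance
      exact @Subsingleton.elim Γ(Y, U false ⊓ U true) _ _ _
    · haveI : Subsingleton Γ(Y, U true ⊓ U false) := by rw [hbot]; infer_instance
      exact @Subsingleton.elim Γ(Y, U true ⊓ U false) _ _ _
    · rfl)
  exact ⟨s, (congr($(Scheme.Opens.ι_appTop O) s)).trans (hs true),
    (congr($(Scheme.Opens.ι_appTop O') s)).trans (hs false)⟩

theorem det_id_add_smulRight {R M : Type u} [CommRing R] [AddCommGroup M] [Module R M]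
    [Module.Free R M] [Module.Finite R M] (φ : M →ₗ[R] R) (v : M) :
    LinearMap.det (LinearMap.transvection φ v) = 1 + φ v :=
  LinearMap.transvection.det φ v

theorem norm_one_add_of_proj {R B : Type u} [CommRing R] [CommRing B] [Algebra R B]
    [Module.Free R B] [Module.Finite R B] (ε : B →+* R) (hε : ∀ r, ε (algebraMap R B r) = r)
    (e : B) (he : ε e = 1) (hproj : ∀ b, e * b = algebraMap R B (ε b) * e) (c : R) :
    Algebra.norm R (1 + algebraMap R B c * e) = 1 + c := by
  let φ : B →ₗ[R] R :=
    { toFun := fun b => c * ε b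
      map_add' := fun a b => by simp [mul_add]
      map_smul' := fun r b => by
        simp only [Algebra.smul_def, map_mul, hε, RingHom.id_apply, smul_eq_mul]
        change c * (r * ε b) = r * (c * ε b)
        ring }
  have h : Algebra.lmul R B (1 + algebraMap R B c * e) = LinearMap.transvection φ e := by
    ext b
    simp [LinearMap.transvection, φ, Algebra.smul_def, add_mul, mul_assoc, hproj b]
  rw [Algebra.norm_apply, h, det_id_add_smulRight]
  simp [φ, he]

section Graph

variable {X X' : Scheme.{u}} (f : X' ⟶ X)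

/-- The transpose of an object over `X'`. -/
abbrev down (W : Over X') : Over X := (Over.map f).obj W

/-- The graph. -/
def graph (W : Over X') : W ⟶ (Over.pullback f).obj (down f W) :=
  Over.homMk (pullback.lift (𝟙 W.left) W.hom (by simp [Category.id_comp]))
    (pullback.lift_snd _ _ _)

theorem graph_fst (W : Over X') :
    (graph f W).left ≫ pullback.fst (down f W).hom f = 𝟙 W.left :=
  pullback.lift_fst _ _ _

theorem graph_comp_map {W : Over X'} {T : Over X} (v : W ⟶ (Over.pullback f).obj T)
    (a : down f W ⟶ T) (ha : a.left = v.left ≫ pullback.fst T.hom f) :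
    graph f W ≫ (Over.pullback f).map a = v := by
  refine Over.OverMorphism.ext ?_
  refine pullback.hom_ext ?_ ?_
  · simp only [Over.comp_left, Category.assoc, Over.pullback_map_left, pullback.lift_fst]
    rw [← Category.assoc, graph_fst, Category.id_comp, ha]
  · simp only [Over.comp_left, Category.assoc, Over.pullback_map_left, pullback.lift_snd]
    exact (pullback.lift_snd _ _ _).trans (Over.w v).symm

theorem isPullback_pb [IsFinite f] {Z T : Over X} (h : Z ⟶ T) :
    IsPullback ((Over.pullback f).map h).left (pullback.fst Z.hom f)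
      (pullback.fst T.hom f) h.left := by
  refine IsPullback.of_right ?_ ?_ (IsPullback.of_hasPullback T.hom f).flip
  · rw [Over.w h]
    convert (IsPullback.of_hasPullback Z.hom f).flip using 1
    all_goals first | rfl | exact pullback.lift_snd (f := T.hom) (g := f) _ _ _
  · exact pullback.lift_fst (f := T.hom) (g := f) _ _ _

variable [IsFinite f] [Etale f]

instance isClosedImmersion_graph (W : Over X') : IsClosedImmersion (graph f W).left := by
  haveI : IsClosedImmersion ((graph f W).left ≫ pullback.fst (down f W).hom f) := by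
    rw [graph_fst]; exact (inferInstance : IsClosedImmersion (𝟙 W.left))
  exact IsClosedImmersion.of_comp (graph f W).left (pullback.fst (down f W).hom f)

instance isOpenImmersion_graph (W : Over X') : IsOpenImmersion (graph f W).left := by
  haveI : Etale (pullback.fst (down f W).hom f) :=
    MorphismProperty.pullback_fst (P := @Etale) _ _ inferInstance
  haveI : Etale ((graph f W).left ≫ pullback.fst (down f W).hom f) := by
    rw [graph_fst]; exact (inferInstance : Etale (𝟙 W.left))
  haveI : Etale (graph f W).left := Etale.of_comp (graph f W).left (pullback.fst (down f W).hom f)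
  exact IsOpenImmersion.of_flat_of_mono _

/-- The open image of the graph. -/
abbrev diag (W : Over X') : ((Over.pullback f).obj (down f W)).left.Opens :=
  (graph f W).left.opensRange

theorem isClosed_diag (W : Over X') :
    IsClosed (diag f W : Set ((Over.pullback f).obj (down f W)).left) :=
  (graph f W).left.isClosedEmbedding.isClosed_range

/-- The complement of the graph. -/
abbrev offDiag (W : Over X') : ((Over.pullback f).obj (down f W)).left.Opens :=
  ⟨(diag f W : Set ((Over.pullback f).obj (down f W)).left)ᶜ, (isClosed_diag f W).isOpen_compl⟩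

variable [LocallyOfFinitePresentation f] [Flat f]

/-- The norm of a function supported on the graph. -/
theorem nrm_graph (W : Over X') (s : H58NM.Norm.Top f (down f W)) (a : Γ(W.left, ⊤))
    (hd : (graph f W).left.appTop s = a) (ho : (offDiag f W).ι.appTop s = 1) :
    H58NM.Norm.nrm f (down f W) s = a := by
  have hcov : ∀ y, y ∈ diag f W ∨ y ∈ offDiag f W := fun y => em (y ∈ diag f W)
  have hdisj : diag f W ⊓ offDiag f W = ⊥ :=
    Opens.ext (Set.inter_compl_self _)
  obtain ⟨e, he, he'⟩ := exists_fn (diag f W) (offDiag f W) hdisj hcov 1 0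
  let γ := (graph f W).left
  let l₀ : (diag f W).toScheme ⟶ W.left := IsOpenImmersion.lift γ (diag f W).ι (by simp [γ])
  have hl₀ : l₀ ≫ γ = (diag f W).ι := IsOpenImmersion.lift_fac _ _ _
  let l₁ : W.left ⟶ (diag f W).toScheme := IsOpenImmersion.lift (diag f W).ι γ (by simp [γ])
  have hl₁ : l₁ ≫ (diag f W).ι = γ := IsOpenImmersion.lift_fac _ _ _
  have heγ : γ.appTop e = 1 := by
    rw [← hl₁, Scheme.Hom.comp_appTop, CommRingCat.comp_apply, he, map_one]
  let str : Γ(W.left, ⊤) →+* H58NM.Norm.Top f (down f W) := (pullback.fst (down f W).hom f).appTop.hom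
  have hγstr : ∀ x, γ.appTop (str x) = x := fun x => by
    show γ.appTop ((pullback.fst (down f W).hom f).appTop x) = x
    rw [← CommRingCat.comp_apply, ← Scheme.Hom.comp_appTop, graph_fst]; rfl
  have hs : s = 1 + str (a - 1) * e := by
    refine fn_ext (diag f W) (offDiag f W) hcov ?_ ?_
    · rw [← hl₀, Scheme.Hom.comp_appTop, CommRingCat.comp_apply, CommRingCat.comp_apply, hd,
        map_add, map_one, map_mul, heγ, mul_one, hγstr, add_sub_cancel]
    · rw [ho, map_add, map_one, map_mul, he', mul_zero, add_zero]
  refine H58NM.Norm.nrm_eq f s a fun V h hV => ?_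
  obtain ⟨hVa, hfree⟩ := hV
  letI := (H58NM.Norm.str f V).hom.toAlgebra
  haveI : Module.Finite Γ(V.left, ⊤) (H58NM.Norm.Top f V) := hfree.1
  haveI : Module.Free Γ(V.left, ⊤) (H58NM.Norm.Top f V) := hfree.2
  let m := ((Over.pullback f).map h).left
  have hmfst : m ≫ pullback.fst (down f W).hom f = pullback.fst V.hom f ≫ h.left :=
    (isPullback_pb f h).w
  have hmsnd : m ≫ pullback.snd (down f W).hom f = pullback.snd V.hom f :=
    Over.w ((Over.pullback f).map h)
  let σ : V.left ⟶ ((Over.pullback f).obj V).left := pullback.lift (𝟙 V.left) (h.left ≫ W.hom)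
    (by rw [Category.id_comp, Category.assoc]; exact (Over.w h).symm)
  have hσ : σ ≫ pullback.fst V.hom f = 𝟙 V.left := pullback.lift_fst _ _ _
  have hσm : σ ≫ m = h.left ≫ γ := by
    refine pullback.hom_ext ?_ ?_
    · rw [Category.assoc, hmfst, ← Category.assoc, hσ, Category.id_comp, Category.assoc]
      exact (Category.comp_id h.left).symm.trans (congrArg (h.left ≫ ·) (graph_fst f W).symm)
    · rw [Category.assoc, hmsnd, Category.assoc]
      exact (pullback.lift_snd _ _ _).trans (congrArg (h.left ≫ ·) (pullback.lift_snd _ _ _).symm)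
  have hε : ∀ r, σ.appTop.hom (algebraMap Γ(V.left, ⊤) (H58NM.Norm.Top f V) r) = r := fun r => by
    show σ.appTop ((pullback.fst V.hom f).appTop r) = r
    rw [← CommRingCat.comp_apply, ← Scheme.Hom.comp_appTop, hσ]; rfl
  have he1 : σ.appTop (m.appTop e) = 1 := by
    rw [← CommRingCat.comp_apply, ← Scheme.Hom.comp_appTop, hσm, Scheme.Hom.comp_appTop,
      CommRingCat.comp_apply, heγ, map_one]
  have hproj : ∀ b : H58NM.Norm.Top f V, m.appTop e * b =
      algebraMap Γ(V.left, ⊤) (H58NM.Norm.Top f V) (σ.appTop.hom b) * m.appTop e := fun b => by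
    refine fn_ext (m ⁻¹ᵁ diag f W) (m ⁻¹ᵁ offDiag f W) (fun y => hcov (m y)) ?_ ?_
    · let P := m ⁻¹ᵁ diag f W
      let l : P.toScheme ⟶ W.left := IsOpenImmersion.lift γ (P.ι ≫ m) (by
        rintro _ ⟨y, rfl⟩
        exact y.2)
      have hl : l ≫ γ = P.ι ≫ m := IsOpenImmersion.lift_fac _ _ _
      have hlh : l = P.ι ≫ pullback.fst V.hom f ≫ h.left := by
        have := congrArg (· ≫ pullback.fst (down f W).hom f) hl
        simp only [Category.assoc, hmfst] at this
        rw [← this]
        exact (Category.comp_id l).symm.trans (congrArg (l ≫ ·) (graph_fst f W).symm)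
      have hP : P.ι = (P.ι ≫ pullback.fst V.hom f) ≫ σ := by
        refine pullback.hom_ext ?_ ?_
        · simp only [Category.assoc, hσ, Category.comp_id]
        · refine Eq.trans ?_ (congrArg ((P.ι ≫ pullback.fst V.hom f) ≫ ·)
            (pullback.lift_snd _ _ _).symm |>.trans (Category.assoc _ _ _).symm)
          have := congrArg (· ≫ pullback.snd (down f W).hom f) hl
          simp only [Category.assoc, hmsnd] at this
          rw [← this, show γ ≫ pullback.snd (down f W).hom f = W.hom from pullback.lift_snd _ _ _,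
            hlh]
          simp only [Category.assoc]
      have h1 : P.ι.appTop (m.appTop e) = 1 := by
        rw [← CommRingCat.comp_apply, ← Scheme.Hom.comp_appTop, ← hl, Scheme.Hom.comp_appTop,
          CommRingCat.comp_apply, heγ, map_one]
      rw [map_mul, map_mul, h1, one_mul, mul_one]
      show P.ι.appTop b = P.ι.appTop ((pullback.fst V.hom f).appTop (σ.appTop b))
      conv_lhs => rw [hP]
      simp only [Scheme.Hom.comp_appTop, CommRingCat.comp_apply]
    · let P := m ⁻¹ᵁ offDiag f W
      have h0 : P.ι.appTop (m.appTop e) = 0 := by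
        rw [← CommRingCat.comp_apply, ← Scheme.Hom.comp_appTop, ← morphismRestrict_ι,
          Scheme.Hom.comp_appTop, CommRingCat.comp_apply, he', map_zero]
      rw [map_mul, map_mul, h0, zero_mul, mul_zero]
  show h.left.appTop a = Algebra.norm Γ(V.left, ⊤) (m.appTop s)
  have hms : ∀ c : Γ(W.left, ⊤), m.appTop (str c) =
      algebraMap Γ(V.left, ⊤) (H58NM.Norm.Top f V) (h.left.appTop c) := fun c => by
    show m.appTop ((pullback.fst (down f W).hom f).appTop c) =
      (pullback.fst V.hom f).appTop (h.left.appTop c)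
    rw [← CommRingCat.comp_apply, ← Scheme.Hom.comp_appTop, hmfst, Scheme.Hom.comp_appTop]
    rfl
  rw [hs, map_add, map_one, map_mul, hms,
    norm_one_add_of_proj σ.appTop.hom hε _ he1 hproj, map_sub, map_one, add_sub_cancel]

end Graph

end Groth.Agent.Lib.NormDual86
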