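import Groth.Agent.Lib.NormDual86.Basic
import Groth.Agent.Lib.NormDual86.Sheaf

/-!
# Sections of a direct image extended by zero off a graph
-/

set_option autoImplicit false
set_option linter.style.haveILetI false
set_option maxHeartbeats 800000
set_option backward.isDefEq.respectTransparency.types false

universe u

open CategoryTheory CategoryTheory.Limits AlgebraicGeometry Opposite TopologicalSpace

noncomputable section

namespace Groth.Agent.Lib.NormDual86

variable {X X' : Scheme.{u}} (f : X' ⟶ X) [IsFinite f] [Etale f]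
  (F : BigSite.Ab Scheme.fppfPrecoverage X')

/-- A map landing set-theoretically in an open kills what vanishes on it. -/
theorem map_eq_zero_of_mem {Y Y' : Over X'} (k : Y' ⟶ Y) (O : Y.left.Opens)
    (hk : ∀ z, k.left z ∈ O) (y : F.obj.obj (op Y)) (hy : F.obj.map (incO Y O).op y = 0) :
    F.obj.map k.op y = 0 := by
  let l : Y'.left ⟶ O.toScheme := IsOpenImmersion.lift O.ι k.left (by
    rintro _ ⟨z, rfl⟩
    simpa using hk z)
  have hl : l ≫ O.ι = k.left := IsOpenImmersion.lift_fac _ _ _
  let l' : Y' ⟶ resO Y O := Over.homMk l (by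
    show l ≫ O.ι ≫ Y.hom = Y'.hom
    rw [← Category.assoc, hl, Over.w k])
  have e : l' ≫ incO Y O = k := Over.OverMorphism.ext hl
  rw [← e, op_comp, F.obj.map_comp, ConcreteCategory.comp_apply, hy, map_zero]

/-- `y` extends `x` by zero off the graph. -/
def IsExt (W : Over X') (x : F.obj.obj (op W))
    (y : F.obj.obj (op ((Over.pullback f).obj (down f W)))) : Prop :=
  F.obj.map (graph f W).op y = x ∧ F.obj.map (incO _ (offDiag f W)).op y = 0

variable {f F}

theorem exists_ext (W : Over X') (x : F.obj.obj (op W)) : ∃ y, IsExt f F W x y := by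
  let l₀ : (diag f W).toScheme ⟶ W.left :=
    IsOpenImmersion.lift (graph f W).left (diag f W).ι (by simp)
  have hl₀ : l₀ ≫ (graph f W).left = (diag f W).ι := IsOpenImmersion.lift_fac _ _ _
  let l : resO _ (diag f W) ⟶ W := Over.homMk l₀ (by
    show l₀ ≫ W.hom = (diag f W).ι ≫ _
    rw [← hl₀, Category.assoc, Over.w (graph f W)])
  let l₁ : W.left ⟶ (diag f W).toScheme :=
    IsOpenImmersion.lift (diag f W).ι (graph f W).left (by simp)
  have hl₁ : l₁ ≫ (diag f W).ι = (graph f W).left := IsOpenImmersion.lift_fac _ _ _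
  let j : W ⟶ resO _ (diag f W) := Over.homMk l₁ (by
    show l₁ ≫ (diag f W).ι ≫ _ = W.hom
    rw [← Category.assoc, hl₁, Over.w (graph f W)])
  have hj : j ≫ incO _ (diag f W) = graph f W := Over.OverMorphism.ext hl₁
  have hjl : j ≫ l = 𝟙 W := by
    refine Over.OverMorphism.ext ((cancel_mono (graph f W).left).1 ?_)
    show (l₁ ≫ l₀) ≫ (graph f W).left = 𝟙 W.left ≫ (graph f W).left
    rw [Category.assoc, hl₀, hl₁, Category.id_comp]
  obtain ⟨y, hy, hy'⟩ := exists_sec F (diag f W) (offDiag f W)
    (Opens.ext (Set.inter_compl_self _)) (fun z => em (z ∈ diag f W)) (F.obj.map l.op x) 0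
  refine ⟨y, ?_, hy'⟩
  rw [← hj, op_comp, F.obj.map_comp, ConcreteCategory.comp_apply, hy, ← ConcreteCategory.comp_apply,
    ← F.obj.map_comp, ← op_comp, hjl, op_id, F.obj.map_id]
  rfl

theorem IsExt.unique {W : Over X'} {x : F.obj.obj (op W)} {y y'} (h : IsExt f F W x y)
    (h' : IsExt f F W x y') : y = y' := by
  refine sec_ext₂ F (diag f W) (offDiag f W) (fun z => em (z ∈ diag f W)) ?_ (h.2.trans h'.2.symm)
  let l₀ : (diag f W).toScheme ⟶ W.left :=
    IsOpenImmersion.lift (graph f W).left (diag f W).ι (by simp)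
  have hl₀ : l₀ ≫ (graph f W).left = (diag f W).ι := IsOpenImmersion.lift_fac _ _ _
  let l : resO _ (diag f W) ⟶ W := Over.homMk l₀ (by
    show l₀ ≫ W.hom = (diag f W).ι ≫ _
    rw [← hl₀, Category.assoc, Over.w (graph f W)])
  have e : l ≫ graph f W = incO _ (diag f W) := Over.OverMorphism.ext hl₀
  rw [← e, op_comp, F.obj.map_comp, ConcreteCategory.comp_apply, h.1, ConcreteCategory.comp_apply, h'.1]

theorem IsExt.add {W : Over X'} {x x' : F.obj.obj (op W)} {y y'} (h : IsExt f F W x y)
    (h' : IsExt f F W x' y') : IsExt f F W (x + x') (y + y') :=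
  ⟨by rw [map_add, h.1, h'.1], by rw [map_add, h.2, h'.2, add_zero]⟩

theorem IsExt.zero (W : Over X') : IsExt f F W 0 0 := ⟨map_zero _, map_zero _⟩

/-- A point over the graph lies on the graph. -/
theorem mem_diag_of_map {W W' : Over X'} (k : W' ⟶ W) (z)
    (hz : ((Over.pullback f).map ((Over.map f).map k)).left z ∈ diag f W) : z ∈ diag f W' := by
  let m := ((Over.pullback f).map ((Over.map f).map k)).left
  let P := m ⁻¹ᵁ diag f W
  have hmfst : m ≫ pullback.fst (down f W).hom f = pullback.fst (down f W').hom f ≫ k.left :=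
    (isPullback_pb f ((Over.map f).map k)).w
  have hmsnd : m ≫ pullback.snd (down f W).hom f = pullback.snd (down f W').hom f :=
    Over.w ((Over.pullback f).map ((Over.map f).map k))
  let l : P.toScheme ⟶ W.left := IsOpenImmersion.lift (graph f W).left (P.ι ≫ m) (by
    rintro _ ⟨y, rfl⟩
    exact y.2)
  have hl : l ≫ (graph f W).left = P.ι ≫ m := IsOpenImmersion.lift_fac _ _ _
  have hlh : P.ι ≫ pullback.fst (down f W').hom f ≫ k.left = l := by
    have := congrArg (· ≫ pullback.fst (down f W).hom f) hl
    simp only [Category.assoc, hmfst] at this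
    rw [← this]
    exact (congrArg (l ≫ ·) (graph_fst f W)).trans (Category.comp_id l)
  have hP : P.ι = (P.ι ≫ pullback.fst (down f W').hom f) ≫ (graph f W').left := by
    refine pullback.hom_ext ?_ ?_
    · simp only [Category.assoc]
      exact (Category.comp_id (P.ι ≫ pullback.fst (down f W').hom f)).symm.trans
        ((Category.assoc _ _ _).trans (congrArg (fun q => P.ι ≫ pullback.fst (down f W').hom f ≫ q)
          (graph_fst f W').symm))
    · simp only [Category.assoc]
      rw [show (graph f W').left ≫ pullback.snd (down f W').hom f = W'.hom from pullback.lift_snd _ _ _,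
        ← Over.w k]
      have := congrArg (· ≫ pullback.snd (down f W).hom f) hl
      simp only [Category.assoc, hmsnd] at this
      rw [← this, show (graph f W).left ≫ pullback.snd (down f W).hom f = W.hom from pullback.lift_snd _ _ _,
        ← hlh]
      simp only [Category.assoc]
  exact ⟨(P.ι ≫ pullback.fst (down f W').hom f) ⟨z, hz⟩, congr($(hP.symm) ⟨z, hz⟩)⟩

theorem IsExt.map {W W' : Over X'} (k : W' ⟶ W) {x : F.obj.obj (op W)} {y}
    (h : IsExt f F W x y) :
    IsExt f F W' (F.obj.map k.op x) (F.obj.map ((Over.pullback f).map ((Over.map f).map k)).op y) := by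
  constructor
  · have e : graph f W' ≫ (Over.pullback f).map ((Over.map f).map k) = k ≫ graph f W := by
      refine Over.OverMorphism.ext (pullback.hom_ext ?_ ?_)
      · simp only [Over.comp_left, Category.assoc, Over.pullback_map_left, pullback.lift_fst]
        rw [← Category.assoc, graph_fst, Category.id_comp]
        exact (Category.comp_id k.left).symm.trans (congrArg (k.left ≫ ·) (graph_fst f W).symm)
      · simp only [Over.comp_left, Category.assoc, Over.pullback_map_left, pullback.lift_snd]
        exact (pullback.lift_snd _ _ _).trans ((Over.w k).symm.trans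
          (congrArg (k.left ≫ ·) (pullback.lift_snd _ _ _).symm))
    rw [← ConcreteCategory.comp_apply, ← F.obj.map_comp, ← op_comp, e, op_comp, F.obj.map_comp,
      ConcreteCategory.comp_apply, h.1]
  · rw [← ConcreteCategory.comp_apply, ← F.obj.map_comp, ← op_comp]
    refine map_eq_zero_of_mem F _ (offDiag f W) (fun z hz => ?_) y h.2
    exact z.2 (mem_diag_of_map k z.1 hz)

end Groth.Agent.Lib.NormDual86
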