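import Groth.Agent.Lib.NormDual86.Ext
import Groth.Agent.Lib.NormDual86.Split
import Groth.Agent.S15383
import Groth.Agent.Lib.JacCrit.OverField

/-!
# The norm on dual sheaves is bijective on sections
-/

set_option autoImplicit false
set_option linter.style.haveILetI false
set_option maxHeartbeats 1600000
set_option backward.isDefEq.respectTransparency.types false

universe u

open CategoryTheory CategoryTheory.Limits AlgebraicGeometry Opposite TopologicalSpace

noncomputable section

namespace Groth.Agent.Lib.NormDual86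

variable {X X' : Scheme.{u}}

/-- The invertible function of a section of `𝔾_m`. -/
def gfn {S : Scheme.{u}} {T : Over S} (x : (CGrpSh2.Gm Scheme.fppfPrecoverage S).obj.obj (op T)) :
    Γ(T.left, ⊤) :=
  Red.gmFn (Additive.toMul (ULift.down (α := Additive (T ⟶ Red.Gm S)) x))

theorem gfn_injective {S : Scheme.{u}} {T : Over S} :
    Function.Injective (gfn (S := S) (T := T)) := fun x y h => by
  change ULift.{u + 1} (Additive (T ⟶ Red.Gm S)) at x y
  exact ULift.ext _ _ (congrArg Additive.ofMul (RedPts.Gm.gmFn_injective h : x.down.toMul = y.down.toMul))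

theorem gfn_map {S : Scheme.{u}} {T T' : Over S} (k : T' ⟶ T)
    (x : (CGrpSh2.Gm Scheme.fppfPrecoverage S).obj.obj (op T)) :
    gfn ((CGrpSh2.Gm Scheme.fppfPrecoverage S).obj.map k.op x) = k.left.appTop (gfn x) :=
  RedPts.Gm.gmFn_comp _ _

theorem gfn_add {S : Scheme.{u}} {T : Over S}
    (x y : (CGrpSh2.Gm Scheme.fppfPrecoverage S).obj.obj (op T)) :
    gfn (x + y) = gfn x * gfn y :=
  RedPts.Gm.gmFn_mul _ _

theorem gfn_zero {S : Scheme.{u}} {T : Over S} :
    gfn (0 : (CGrpSh2.Gm Scheme.fppfPrecoverage S).obj.obj (op T)) = 1 :=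
  RedPts.Gm.gmFn_one

theorem isUnit_gfn {S : Scheme.{u}} {T : Over S}
    (x : (CGrpSh2.Gm Scheme.fppfPrecoverage S).obj.obj (op T)) : IsUnit (gfn x) :=
  RedPts.Gm.isUnit_gmFn _

theorem exists_gfn {S : Scheme.{u}} {T : Over S} {a : Γ(T.left, ⊤)} (ha : IsUnit a) :
    ∃ x : (CGrpSh2.Gm Scheme.fppfPrecoverage S).obj.obj (op T), gfn x = a := by
  obtain ⟨t, ht⟩ := RedPts.Gm.exists_gmFn_eq (S := S) (X := T) ha
  exact ⟨(⟨Additive.ofMul t⟩ : ULift.{u + 1} (Additive (T ⟶ Red.Gm S))), ht⟩

variable (f : X' ⟶ X) [IsFinite f] [Etale f] (F : BigSite.Ab Scheme.fppfPrecoverage X')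

/-- The direct image. -/
abbrev pushF : BigSite.Ab Scheme.fppfPrecoverage X :=
  (BigSite.pushBig Scheme.fppfPrecoverage f AddCommGrpCat.{u + 1}).obj F

variable {f F} {T : Over X}

/-- The map from the transpose. -/
def tr (V : Over ((Over.pullback f).obj T)) : down f V.left ⟶ T :=
  Over.homMk (V.hom.left ≫ pullback.fst T.hom f) (by
    show (V.hom.left ≫ pullback.fst T.hom f) ≫ T.hom = V.left.hom ≫ f
    rw [← Over.w V.hom, Category.assoc, Category.assoc, pullback.condition]
    rfl)

variable (ψ : (pushF f F).over T ⟶ (CGrpSh2.Gm Scheme.fppfPrecoverage X).over T)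

/-- The unique section with value the function of `ψ` at the extension. -/
theorem exists_inv (V : Over ((Over.pullback f).obj T)) (x : F.obj.obj (op V.left)) :
    ∃ c : (CGrpSh2.Gm Scheme.fppfPrecoverage X').obj.obj (op V.left),
      gfn c = gfn (T := down f V.left) (ψ.hom.app (op (Over.mk (tr V))) (exists_ext V.left x).choose) :=
  exists_gfn (isUnit_gfn (T := down f V.left) (ψ.hom.app (op (Over.mk (tr V))) (exists_ext V.left x).choose))

theorem gfn_inv {V : Over ((Over.pullback f).obj T)} {x : F.obj.obj (op V.left)} {y}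
    (hy : IsExt f F V.left x y) :
    gfn (exists_inv ψ V x).choose = gfn (T := down f V.left) (ψ.hom.app (op (Over.mk (tr V))) y) := by
  rw [(exists_inv ψ V x).choose_spec, (exists_ext V.left x).choose_spec.unique hy]

/-- The components of the character attached to `ψ`. -/
def invApp (V : Over ((Over.pullback f).obj T)) :
    F.obj.obj (op V.left) ⟶ (CGrpSh2.Gm Scheme.fppfPrecoverage X').obj.obj (op V.left) :=
  AddCommGrpCat.ofHom (X := F.obj.obj (op V.left))
    (Y := (CGrpSh2.Gm Scheme.fppfPrecoverage X').obj.obj (op V.left))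
    (AddMonoidHom.mk' (fun x => (exists_inv ψ V x).choose) fun x x' => gfn_injective (by
      rw [gfn_add, gfn_inv ψ ((exists_ext V.left x).choose_spec.add (exists_ext V.left x').choose_spec),
        gfn_inv ψ (exists_ext V.left x).choose_spec, gfn_inv ψ (exists_ext V.left x').choose_spec]
      exact (congrArg (gfn (T := down f V.left))
        (map_add (ψ.hom.app (op (Over.mk (tr V)))).hom _ _)).trans (gfn_add _ _)))

/-- The character attached to `ψ`. -/
def invHom : F.over ((Over.pullback f).obj T) ⟶
    (CGrpSh2.Gm Scheme.fppfPrecoverage X').over ((Over.pullback f).obj T) :=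
  ⟨{ app := fun V => invApp ψ V.unop
     naturality := fun V V' k => AddCommGrpCat.ext fun x => by
       change (exists_inv ψ V'.unop (F.obj.map k.unop.left.op x)).choose =
         (CGrpSh2.Gm Scheme.fppfPrecoverage X').obj.map k.unop.left.op (exists_inv ψ V.unop x).choose
       refine gfn_injective ?_
       rw [gfn_map, gfn_inv ψ ((exists_ext V.unop.left x).choose_spec.map k.unop.left),
         gfn_inv ψ (exists_ext V.unop.left x).choose_spec]
       let k' : Over.mk (tr V'.unop) ⟶ Over.mk (tr V.unop) :=
         Over.homMk ((Over.map f).map k.unop.left) (Over.OverMorphism.ext (by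
           show k.unop.left.left ≫ V.unop.hom.left ≫ pullback.fst T.hom f =
             V'.unop.hom.left ≫ pullback.fst T.hom f
           rw [← Category.assoc, ← Over.comp_left, Over.w k.unop]))
       have := NatTrans.naturality_apply ψ.hom k'.op (exists_ext V.unop.left x).choose
       exact (congrArg (gfn (T := down f V'.unop.left)) this).trans (gfn_map _ _) }⟩

/-- The induced map on dual sheaves, on sections. -/
def dualApp (N : CGrpSh3.pushGm Scheme.fppfPrecoverage f ⟶ CGrpSh2.Gm Scheme.fppfPrecoverage X)
    (χ : F.over ((Over.pullback f).obj T) ⟶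
      (CGrpSh2.Gm Scheme.fppfPrecoverage X').over ((Over.pullback f).obj T)) :
    (pushF f F).over T ⟶ (CGrpSh2.Gm Scheme.fppfPrecoverage X).over T :=
  (CGrpSh3.dualNormMap Scheme.fppfPrecoverage f N F).hom.app (op T) χ

theorem dualApp_app (N : CGrpSh3.pushGm Scheme.fppfPrecoverage f ⟶ CGrpSh2.Gm Scheme.fppfPrecoverage X)
    (χ : F.over ((Over.pullback f).obj T) ⟶
      (CGrpSh2.Gm Scheme.fppfPrecoverage X').over ((Over.pullback f).obj T))
    (U : Over T) (y : F.obj.obj (op ((Over.pullback f).obj U.left))) :
    (dualApp N χ).hom.app (op U) y =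
      N.hom.app (op U.left) (χ.hom.app (op ((Over.post (Over.pullback f)).obj U)) y) := rfl

variable [IsNoetherian X] {N : CGrpSh3.pushGm Scheme.fppfPrecoverage f ⟶ CGrpSh2.Gm Scheme.fppfPrecoverage X}

theorem gfn_N (hN : CGrpSh3.IsNormMap Scheme.fppfPrecoverage f N) [LocallyOfFinitePresentation f]
    (U : Over X) (x : (CGrpSh2.Gm Scheme.fppfPrecoverage X').obj.obj (op ((Over.pullback f).obj U))) :
    gfn (T := U) (N.hom.app (op U) x) = H58NM.Norm.nrm f U (gfn x) := by
  rw [S15383.result X X' f N (H58NM.Norm.N f) hN (H58NM.Norm.isNormMap f)]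
  exact H58NM.Norm.gmFn_normPoint f U _

theorem dualApp_ext (hN : CGrpSh3.IsNormMap Scheme.fppfPrecoverage f N)
    (χ : F.over ((Over.pullback f).obj T) ⟶
      (CGrpSh2.Gm Scheme.fppfPrecoverage X').over ((Over.pullback f).obj T))
    (V : Over ((Over.pullback f).obj T)) (x : F.obj.obj (op V.left)) {y} (hy : IsExt f F V.left x y) :
    gfn (T := down f V.left) ((dualApp N χ).hom.app (op (Over.mk (tr V))) y) =
      gfn (T := V.left) (χ.hom.app (op V) x) := by
  refine (gfn_N hN (down f V.left) _).trans ?_
  let P : Over ((Over.pullback f).obj T) := (Over.post (Over.pullback f)).obj (Over.mk (tr V))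
  refine nrm_graph f V.left _ _ ?_ ?_
  · let γ : V ⟶ P := Over.homMk (graph f V.left) (graph_comp_map f V.hom (tr V) rfl)
    have := NatTrans.naturality_apply χ.hom γ.op y
    refine (gfn_map (graph f V.left) _).symm.trans (congrArg (gfn (T := V.left)) ?_)
    refine this.symm.trans ?_
    exact congrArg (χ.hom.app (op V)) hy.1
  · let P₀ : Over ((Over.pullback f).obj T) := Over.mk (incO _ (offDiag f V.left) ≫ P.hom)
    let γ : P₀ ⟶ P := Over.homMk (incO _ (offDiag f V.left)) rfl
    have := NatTrans.naturality_apply χ.hom γ.op y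
    refine (gfn_map (incO _ (offDiag f V.left)) _).symm.trans ?_
    refine (congrArg (gfn (T := P₀.left)) (this.symm.trans
      ((congrArg (χ.hom.app (op P₀)) hy.2).trans (map_zero (χ.hom.app (op P₀)).hom)))).trans ?_
    exact gfn_zero

theorem hom_over_ext {S : Scheme.{u}} {T : Over S} {A B : BigSite.Ab Scheme.fppfPrecoverage S}
    {φ φ' : A.over T ⟶ B.over T}
    (h : ∀ (U : Over T) (y : A.obj.obj (op U.left)), φ.hom.app (op U) y = φ'.hom.app (op U) y) : φ = φ' :=
  Sheaf.hom_ext (NatTrans.ext (funext fun U => AddCommGrpCat.ext fun y => h U.unop y))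

theorem dualApp_injective (hN : CGrpSh3.IsNormMap Scheme.fppfPrecoverage f N) :
    Function.Injective (dualApp (f := f) (F := F) (T := T) N) := fun χ χ' h => hom_over_ext fun V x => by
  obtain ⟨y, hy⟩ := exists_ext (f := f) V.left x
  refine gfn_injective ?_
  exact ((dualApp_ext hN χ V x hy).symm.trans (by rw [h])).trans (dualApp_ext hN χ' V x hy)

/-- The set of sections on which two characters agree is closed under the group operations. -/
abbrev Good (φ φ' : (pushF f F).over T ⟶ (CGrpSh2.Gm Scheme.fppfPrecoverage X).over T)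
    (U : Over T) (y : F.obj.obj (op ((Over.pullback f).obj U.left))) : Prop :=
  φ.hom.app (op U) y = φ'.hom.app (op U) y

theorem good_of_cover {φ φ' : (pushF f F).over T ⟶ (CGrpSh2.Gm Scheme.fppfPrecoverage X).over T}
    {U : Over T} (y : F.obj.obj (op ((Over.pullback f).obj U.left)))
    {ι : Type (u + 1)} (Z : ι → Over T) (g : ∀ i, Z i ⟶ U)
    (hflat : ∀ i, Flat (g i).left.left) (hlfp : ∀ i, LocallyOfFinitePresentation (g i).left.left)
    (hsurj : ∀ z : U.left.left, ∃ i, z ∈ Set.range (g i).left.left)
    (h : ∀ i, Good φ φ' (Z i) (F.obj.map ((Over.pullback f).map (g i).left).op y)) : Good φ φ' U y := by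
  refine sec_ext (CGrpSh2.Gm Scheme.fppfPrecoverage X) (Y := U.left) (fun i => (Z i).left)
    (fun i => (g i).left) hflat hlfp hsurj fun i => ?_
  exact (NatTrans.naturality_apply φ.hom (g i).op y).symm.trans
    ((h i).trans (NatTrans.naturality_apply φ'.hom (g i).op y))

theorem good_piece (hN : CGrpSh3.IsNormMap Scheme.fppfPrecoverage f N) (U : Over T)
    (V : ((Over.pullback f).obj U.left).left.Opens)
    (hV : IsClosed (V : Set ((Over.pullback f).obj U.left).left))
    [Mono (V.ι ≫ pullback.fst U.left.hom f)]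
    (y : F.obj.obj (op ((Over.pullback f).obj U.left)))
    (hy : F.obj.map (incO _ (⟨_, hV.isOpen_compl⟩ : Opens _)).op y = 0) :
    Good (dualApp N (invHom ψ)) ψ U y := by
  let O' : ((Over.pullback f).obj U.left).left.Opens := ⟨_, hV.isOpen_compl⟩
  let W : Over X' := resO _ V
  let m := V.ι ≫ pullback.fst U.left.hom f
  haveI : IsFinite (pullback.fst U.left.hom f) := MorphismProperty.pullback_fst _ _ inferInstance
  haveI : Etale (pullback.fst U.left.hom f) :=
    MorphismProperty.pullback_fst (P := @Etale) _ _ inferInstance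
  haveI : IsOpenImmersion m := IsOpenImmersion.of_flat_of_mono _
  haveI : IsClosedImmersion V.ι := IsClosedImmersion.of_isPreimmersion _ (by simpa using hV)
  let h : down f W ⟶ U.left := Over.homMk m (by
    show (V.ι ≫ pullback.fst _ _) ≫ U.left.hom = (V.ι ≫ pullback.snd _ _) ≫ f
    rw [Category.assoc, Category.assoc, pullback.condition])
  let R : U.left.left.Opens := ⟨(Set.range m)ᶜ, m.isClosedMap.isClosed_range.isOpen_compl⟩
  let Vo : Over ((Over.pullback f).obj T) := Over.mk (incO _ V ≫ (Over.pullback f).map U.hom)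
  have hgr : graph f W ≫ (Over.pullback f).map h = incO _ V := graph_comp_map f (incO _ V) h rfl
  have htr : h ≫ U.hom = tr Vo := Over.OverMorphism.ext (by
    show (V.ι ≫ pullback.fst U.left.hom f) ≫ U.hom.left =
      (V.ι ≫ ((Over.pullback f).map U.hom).left) ≫ pullback.fst T.hom f
    rw [Category.assoc, Category.assoc]
    exact congrArg (V.ι ≫ ·) (isPullback_pb f U.hom).w.symm)
  refine good_of_cover y (ι := ULift.{u + 1} Bool)
    (fun b => bif b.down then Over.mk (h ≫ U.hom) else Over.mk (incO U.left R ≫ U.hom))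
    (fun b => match b with
      | ⟨true⟩ => Over.homMk h rfl
      | ⟨false⟩ => Over.homMk (incO U.left R) rfl) ?_ ?_ (fun z => ?_) ?_
  · rintro ⟨_ | _⟩
    · exact (inferInstance : Flat R.ι)
    · exact (inferInstance : Flat m)
  · rintro ⟨_ | _⟩
    · exact (inferInstance : LocallyOfFinitePresentation R.ι)
    · exact (inferInstance : LocallyOfFinitePresentation m)
  · by_cases hz : z ∈ Set.range m
    · exact ⟨⟨true⟩, hz⟩
    · exact ⟨⟨false⟩, ⟨z, hz⟩, rfl⟩
  rintro ⟨_ | _⟩
  · have h0 : F.obj.map ((Over.pullback f).map (incO U.left R)).op y = 0 := by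
      refine map_eq_zero_of_mem F _ O' (fun z hz => ?_) y hy
      have h1 : pullback.fst U.left.hom f (((Over.pullback f).map (incO U.left R)).left z) ∈ R := by
        rw [← Scheme.Hom.comp_apply, (isPullback_pb f (incO U.left R)).w, Scheme.Hom.comp_apply]
        exact (pullback.fst (R.ι ≫ U.left.hom) f z).2
      exact h1 ⟨⟨_, hz⟩, rfl⟩
    show _ = _
    rw [show ((Over.pullback f).map (Over.homMk (incO U.left R) rfl :
      Over.mk (incO U.left R ≫ U.hom) ⟶ U).left) = (Over.pullback f).map (incO U.left R) from rfl, h0]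
    exact (map_zero _).trans (map_zero _).symm
  · let y' := F.obj.map ((Over.pullback f).map h).op y
    have hE : IsExt f F W (F.obj.map (incO _ V).op y) y' := by
      constructor
      · rw [← ConcreteCategory.comp_apply, ← F.obj.map_comp, ← op_comp, hgr]
      · rw [← ConcreteCategory.comp_apply, ← F.obj.map_comp, ← op_comp]
        refine map_eq_zero_of_mem F (incO _ (offDiag f W) ≫ (Over.pullback f).map h) O'
          (fun (z : (offDiag f W).toScheme) hz => z.2 ?_) y hy
        let P := ((Over.pullback f).map h).left ⁻¹ᵁ V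
        let l : P.toScheme ⟶ W.left := IsOpenImmersion.lift V.ι (P.ι ≫ ((Over.pullback f).map h).left) (by
          rintro _ ⟨q, rfl⟩
          exact ⟨⟨_, q.2⟩, rfl⟩)
        have hl : l ≫ V.ι = P.ι ≫ ((Over.pullback f).map h).left := IsOpenImmersion.lift_fac _ _ _
        have hl' : l = P.ι ≫ pullback.fst (down f W).hom f := by
          refine (cancel_mono m).1 ?_
          show l ≫ V.ι ≫ pullback.fst U.left.hom f = _
          rw [← Category.assoc, hl, Category.assoc, (isPullback_pb f h).w, Category.assoc]
          rfl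
        have hP : P.ι = l ≫ (graph f W).left := by
          refine pullback.hom_ext ?_ ?_
          · rw [Category.assoc, ← hl']
            exact (Category.comp_id l).symm.trans (congrArg (l ≫ ·) (graph_fst f W).symm)
          · rw [Category.assoc, show (graph f W).left ≫ pullback.snd (down f W).hom f =
              V.ι ≫ ((Over.pullback f).obj U.left).hom from pullback.lift_snd _ _ _,
              ← Category.assoc, hl, Category.assoc, Over.w ((Over.pullback f).map h)]
            rfl
        exact ⟨l ⟨z.1, hz⟩, congr($(hP.symm) ⟨z.1, hz⟩)⟩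
    have key : gfn (T := down f W) ((dualApp N (invHom ψ)).hom.app (op (Over.mk (tr Vo))) y') =
        gfn (T := down f W) (ψ.hom.app (op (Over.mk (tr Vo))) y') :=
      (dualApp_ext hN (invHom ψ) Vo _ hE).trans (gfn_inv ψ (V := Vo) hE)
    show (dualApp N (invHom ψ)).hom.app (op (Over.mk (h ≫ U.hom))) y' =
      ψ.hom.app (op (Over.mk (h ≫ U.hom))) y'
    rw [htr]
    exact gfn_injective key

theorem good_of_supported (hN : CGrpSh3.IsNormMap Scheme.fppfPrecoverage f N) (U : Over T) {ι : Type}
    (V : ι → ((Over.pullback f).obj U.left).left.Opens)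
    (hV : ∀ i, IsClosed (V i : Set ((Over.pullback f).obj U.left).left))
    (hm : ∀ i, Mono ((V i).ι ≫ pullback.fst U.left.hom f)) (s : Finset ι) :
    ∀ y : F.obj.obj (op ((Over.pullback f).obj U.left)),
      (∀ z, (∀ i ∈ s, z ∉ V i) → ∃ O : ((Over.pullback f).obj U.left).left.Opens, z ∈ O ∧
        F.obj.map (incO _ O).op y = 0) → Good (dualApp N (invHom ψ)) ψ U y := by
  classical
  induction s using Finset.induction_on with
  | empty =>
    intro y hy
    have : y = 0 := by
      choose O hzO hO using fun z => hy z (by simp)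
      refine sec_ext F (ι := ULift.{u + 1} ((Over.pullback f).obj U.left).left)
        (fun z => resO _ (O z.down)) (fun z => incO _ (O z.down))
        (fun z => inferInstanceAs (Flat (O z.down).ι))
        (fun z => inferInstanceAs (LocallyOfFinitePresentation (O z.down).ι))
        (fun z => ⟨⟨z⟩, ⟨z, hzO z⟩, rfl⟩) fun z => ?_
      rw [hO, map_zero]
    show _ = _
    rw [this]
    exact (map_zero _).trans (map_zero _).symm
  | @insert a s ha ih =>
    intro y hy
    let O' : ((Over.pullback f).obj U.left).left.Opens := ⟨_, (hV a).isOpen_compl⟩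
    obtain ⟨y₁, hy₁, hy₁'⟩ := exists_sec F (V a) O' (Opens.ext (Set.inter_compl_self _))
      (fun z => em (z ∈ V a)) (F.obj.map (incO _ (V a)).op y) 0
    have h₁ : Good (dualApp N (invHom ψ)) ψ U y₁ :=
      haveI := hm a
      good_piece ψ hN U (V a) (hV a) y₁ hy₁'
    have h₂ : Good (dualApp N (invHom ψ)) ψ U (y - y₁) := by
      refine ih _ fun z hz => ?_
      by_cases hza : z ∈ V a
      · exact ⟨V a, hza, by rw [map_sub, hy₁, sub_self]⟩
      · obtain ⟨O, hzO, hO⟩ := hy z fun i hi => by
          rcases Finset.mem_insert.1 hi with rfl | hi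
          · exact hza
          · exact hz i hi
        refine ⟨O ⊓ O', ⟨hzO, hza⟩, ?_⟩
        rw [map_sub, map_eq_zero_of_mem F (incO _ (O ⊓ O')) O (fun q : (O ⊓ O').toScheme => q.2.1) y hO,
          map_eq_zero_of_mem F (incO _ (O ⊓ O')) O' (fun q : (O ⊓ O').toScheme => q.2.2) y₁ hy₁', sub_zero]
    show _ = _
    rw [show y = (y - y₁) + y₁ from (sub_add_cancel y y₁).symm]
    exact ((map_add _ _ _).trans (congrArg₂ (· + ·) h₂ h₁)).trans (map_add _ _ _).symm

theorem dualApp_invHom (hN : CGrpSh3.IsNormMap Scheme.fppfPrecoverage f N) :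
    dualApp N (invHom ψ) = ψ := hom_over_ext fun U y => by
  choose Z h u he hu ι hι V hV hm hcov using fun t : U.left.left => exists_cover f U.left t
  refine good_of_cover y (ι := ULift.{u + 1} U.left.left) (fun t => Over.mk (h t.down ≫ U.hom))
    (fun t => Over.homMk (h t.down) rfl) (fun t => ?_) (fun t => ?_)
    (fun t => ⟨⟨t⟩, u t, hu t⟩) fun t => ?_
  · haveI := he t.down
    exact (inferInstance : Flat (h t.down).left)
  · haveI := he t.down
    exact (inferInstance : LocallyOfFinitePresentation (h t.down).left)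
  · haveI := hι t.down
    haveI := Fintype.ofFinite (ι t.down)
    refine good_of_supported ψ hN (Over.mk (h t.down ≫ U.hom)) (V t.down) (hV t.down) (hm t.down)
      Finset.univ _ fun z hz => ?_
    obtain ⟨i, hi⟩ := hcov t.down z
    exact absurd hi (hz i (Finset.mem_univ i))

end Groth.Agent.Lib.NormDual86
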